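import Groth.Agent.Lib.ProjSpace.Basic
import Groth.Agent.Lib.Zeta.Ext
import Groth.Prelude.Def_SgaExt

/-!
The number of rational points of projective space.
-/

universe u

open CategoryTheory AlgebraicGeometry MvPolynomial

noncomputable section

namespace Groth.Agent.Lib.Zeta45.ProjPoints

open Groth.Agent.Lib.ProjSpace.Charts Groth.Agent.Lib.ProjSpace.Basic

variable (n : ℕ) (k K : Type u) [Field k] [Field K] [Algebra k K]

abbrev Pts := { g : Spec (CommRingCat.of K) ⟶ CohB1.ProjSpace n k //
  g ≫ CohB1.ProjSpace.toSpec n k = Spec.map (CommRingCat.ofHom (algebraMap k K)) }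

variable {n k K}

/-- The point with coordinates `v` in the chart `i`. -/
def chartPt (i : Fin (n + 1)) (v : Fin n → K) : Pts n k K :=
  ⟨Spec.map (CommRingCat.ofHom (eval₂Hom (algebraMap k K) v)) ≫ chartι k i, by
    rw [Category.assoc, chartι_toSpec, ← Spec.map_comp, ← CommRingCat.ofHom_comp]
    congr 2
    ext r
    simp⟩

theorem isLocalizationElem_eq_coord (i j : Fin (n + 1)) :
    HomogeneousLocalization.Away.isLocalizationElem (𝒜 := CohB1.polyGrading n k)
      (X_mem_one (R := k) i) (X_mem_one (R := k) j) = coord k i j := by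
  apply HomogeneousLocalization.val_injective
  rw [val_coord]
  simp [HomogeneousLocalization.Away.isLocalizationElem, HomogeneousLocalization.Away.val_mk]

theorem chartPt_mem_iff (i j : Fin (n + 1)) (v : Fin n → K) :
    (chartPt (k := k) i v).1.base (IsLocalRing.closedPoint K) ∈
        Proj.basicOpen (CohB1.polyGrading n k) (MvPolynomial.X j) ↔
      eval₂Hom (algebraMap k K) v ((chartEquiv k i).symm (coord k i j)) ≠ 0 := by
  have h := Proj.awayι_preimage_basicOpen (CohB1.polyGrading n k)
    (X_mem_one (R := k) i) one_pos (X_mem_one (R := k) j) one_pos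
  rw [isLocalizationElem_eq_coord] at h
  refine (SetLike.ext_iff.1 h _).trans ?_
  change ¬ (eval₂Hom (algebraMap k K) v ((chartEquiv k i).symm (coord k i j)) ∈
    IsLocalRing.maximalIdeal K) ↔ _
  rw [IsLocalRing.maximalIdeal_eq_bot, Ideal.mem_bot]

theorem chartPt_mem_self (i : Fin (n + 1)) (v : Fin n → K) :
    (chartPt (k := k) i v).1.base (IsLocalRing.closedPoint K) ∈
        Proj.basicOpen (CohB1.polyGrading n k) (MvPolynomial.X i) := by
  rw [chartPt_mem_iff, coord_self, map_one, map_one]
  exact one_ne_zero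

theorem chartPt_mem_succAbove (i : Fin (n + 1)) (l : Fin n) (v : Fin n → K) :
    (chartPt (k := k) i v).1.base (IsLocalRing.closedPoint K) ∈
        Proj.basicOpen (CohB1.polyGrading n k) (MvPolynomial.X (i.succAbove l)) ↔ v l ≠ 0 := by
  rw [chartPt_mem_iff, ← chartEquiv_X, RingEquiv.symm_apply_apply, eval₂Hom_X']

variable (n k K)

abbrev Cell (i : Fin (n + 1)) := { v : Fin n → K // ∀ l, i.succAbove l < i → v l = 0 }

theorem bijective_cells :
    Function.Bijective (fun p : Σ i : Fin (n + 1), Cell n K i => chartPt (k := k) p.1 p.2.1) := by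
  constructor
  · rintro ⟨i, v, hv⟩ ⟨j, w, hw⟩ h
    have key : ∀ (i j : Fin (n + 1)) (v w : Fin n → K) (_ : ∀ l, i.succAbove l < i → v l = 0),
        chartPt (k := k) i v = chartPt j w → ¬ j < i := by
      intro i j v w hv h hji
      obtain ⟨l, rfl⟩ := Fin.exists_succAbove_eq hji.ne
      have h1 := chartPt_mem_self (k := k) (i.succAbove l) w
      rw [← h, chartPt_mem_succAbove] at h1
      exact h1 (hv l hji)
    obtain rfl : i = j := le_antisymm (not_lt.1 (key i j v w hv h))
      (not_lt.1 (key j i w v hw h.symm))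
    have h2 := congrArg Subtype.val h
    simp only [chartPt, cancel_mono] at h2
    have h3 := congrArg CommRingCat.Hom.hom (Spec.map_injective h2)
    obtain rfl : v = w := funext fun l => by simpa using RingHom.congr_fun h3 (MvPolynomial.X l)
    rfl
  · intro g
    classical
    let x := g.1.base (IsLocalRing.closedPoint K)
    let S := Finset.univ.filter fun i : Fin (n + 1) =>
      x ∈ Proj.basicOpen (CohB1.polyGrading n k) (MvPolynomial.X i)
    have hS : S.Nonempty := by
      obtain ⟨i, hi⟩ := exists_mem_opensRange_chartι n k x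
      rw [opensRange_chartι] at hi
      exact ⟨i, Finset.mem_filter.2 ⟨Finset.mem_univ _, hi⟩⟩
    set i := S.min' hS with hi
    have hxi : x ∈ (chartι k i).opensRange := by
      rw [opensRange_chartι]
      exact (Finset.mem_filter.1 (S.min'_mem hS)).2
    have hrange : Set.range g.1.base ⊆ Set.range (chartι k i).base := by
      rintro y ⟨z, rfl⟩
      obtain rfl : z = IsLocalRing.closedPoint K := Subsingleton.elim _ _
      exact hxi
    obtain ⟨ψ, hψ⟩ : ∃ ψ, Spec.map ψ = IsOpenImmersion.lift (chartι k i) g.1 hrange :=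
      ⟨_, Spec.map_preimage _⟩
    have hfac : Spec.map ψ ≫ chartι k i = g.1 := by rw [hψ, IsOpenImmersion.lift_fac]
    have hC : ∀ r, ψ.hom (MvPolynomial.C r) = algebraMap k K r := by
      intro r
      have h2 : Spec.map ψ ≫ chartι k i ≫ CohB1.ProjSpace.toSpec n k =
          Spec.map (CommRingCat.ofHom (algebraMap k K)) := by
        rw [← Category.assoc, hfac]; exact g.2
      rw [chartι_toSpec, ← Spec.map_comp] at h2
      exact RingHom.congr_fun (congrArg CommRingCat.Hom.hom (Spec.map_injective h2)) r
    have heq : ψ = CommRingCat.ofHom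
        (eval₂Hom (algebraMap k K) fun l => ψ.hom (MvPolynomial.X l)) := by
      ext : 1
      refine MvPolynomial.ringHom_ext (fun r => ?_) (fun l => ?_)
      · simpa using hC r
      · simp
    have hpt : chartPt (k := k) i (fun l => ψ.hom (MvPolynomial.X l)) = g := by
      refine Subtype.ext ?_
      simp only [chartPt]
      rw [← heq, hfac]
    refine ⟨⟨i, fun l => ψ.hom (MvPolynomial.X l), fun l hl => ?_⟩, hpt⟩
    by_contra hne
    have h1 := (chartPt_mem_succAbove (k := k) i l (fun l => ψ.hom (MvPolynomial.X l))).2 hne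
    rw [hpt] at h1
    exact absurd (S.min'_le (i.succAbove l) (Finset.mem_filter.2 ⟨Finset.mem_univ _, h1⟩))
      (not_le.2 hl)

theorem natCard_cell (i : Fin (n + 1)) : Nat.card (Cell n K i) = Nat.card K ^ (n - (i : ℕ)) := by
  classical
  let e : Cell n K i ≃ ({ l : Fin n // ¬ (l : ℕ) < i } → K) :=
    { toFun := fun v l => v.1 l
      invFun := fun w => ⟨fun l => if h : (l : ℕ) < i then 0 else w ⟨l, h⟩, fun l hl => by
        rw [Fin.succAbove_lt_iff_castSucc_lt] at hl
        simp [Fin.lt_def] at hl
        simp [hl]⟩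
      left_inv := fun v => Subtype.ext <| funext fun l => by
        by_cases h : (l : ℕ) < i
        · simp only [h, ↓reduceDIte]
          exact (v.2 l (Fin.succAbove_lt_iff_castSucc_lt _ _ |>.2 (by simpa [Fin.lt_def] using h))).symm
        · simp [h]
      right_inv := fun w => funext fun l => by simp [l.2] }
  let e' : { l : Fin n // ¬ (l : ℕ) < i } ≃ Fin (n - (i : ℕ)) :=
    { toFun := fun l => ⟨(l.1 : ℕ) - i, by have := l.1.isLt; have := l.2; omega⟩
      invFun := fun m => ⟨⟨(m : ℕ) + i, by have := m.isLt; omega⟩, by simp⟩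
      left_inv := fun l => Subtype.ext <| Fin.ext <| by have := l.2; simp; omega
      right_inv := fun m => Fin.ext <| by simp }
  rw [Nat.card_congr (e.trans (e'.arrowCongr (Equiv.refl K))), Nat.card_fun, Nat.card_fin]

/-- `#P^n(K) = 1 + #K + ⋯ + #K ^ n`. -/
theorem pointCount_projSpace [Finite K] :
    SgaExt.pointCount (CohB1.ProjSpace.toSpec n k) K =
      ∑ i ∈ Finset.range (n + 1), Nat.card K ^ i := by
  rw [SgaExt.pointCount, ← Nat.card_eq_of_bijective _ (bijective_cells n k K), Nat.card_sigma]
  simp only [natCard_cell]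
  rw [Fin.sum_univ_eq_sum_range (fun i => Nat.card K ^ (n - i))]
  simpa using Finset.sum_range_reflect (fun i => Nat.card K ^ i) (n + 1)

end Groth.Agent.Lib.Zeta45.ProjPoints
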